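import Cfsg.Agent.OM.On.F7.Defs
import Cfsg.Agent.OM.Cu.Tr

/-!
# OM/On/F7 : the action on the coroot lattice (helper66)
-/

set_option autoImplicit false
set_option linter.unusedSectionVars false

namespace Cfsg.Agent.OM.On.F7

open Cfsg Matrix Polynomial Cfsg.Agent.DL Cfsg.Agent.DL.PP Cfsg.Agent.KZ.Lie Cfsg.Agent.HZ.L Cfsg.Agent.BZ.TA Cfsg.Agent.OM.Cu

theorem Fac.blk {S R I : Type} [CommRing S] [Fintype R] [DecidableEq R] [Fintype I] [DecidableEq I] (A : Matrix R R S)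
    (P : Matrix R I S) (N : Matrix I R S) (t : S) (h : A * P = P) : (t - 1) ^ Fintype.card I * (t • ((1 + P * N) * A) - 1).det =
      (t • A - 1).det * (t • (1 + N * P) - 1).det := by
  have h1 : fromBlocks (t • A - 1) (t • P) (-(N * A)) 1 * fromBlocks 1 (-(t • P)) 0 ((t - 1) • (1 : Matrix I I S)) =
      fromBlocks (t • A - 1) 0 (-(N * A)) (t • (1 + N * P) - 1) := by
    rw [fromBlocks_multiply]
    congr 1
    · rw [Matrix.mul_one, Matrix.mul_zero, add_zero]
    · simp only [Matrix.mul_neg, Matrix.sub_mul, Matrix.mul_smul, Matrix.smul_mul, h, Matrix.one_mul, Matrix.mul_one]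
      module
    · rw [Matrix.mul_one, Matrix.mul_zero, add_zero]
    · simp only [Matrix.mul_neg, Matrix.neg_mul, Matrix.mul_smul, Matrix.mul_assoc, h, Matrix.mul_one]
      module
  have h2 := congrArg det h1
  rw [det_mul, det_fromBlocks_one₂₂, det_fromBlocks_zero₂₁, det_fromBlocks_zero₁₂, det_one, one_mul, det_smul, det_one,
    mul_one] at h2
  rw [← h2, mul_comm]
  congr 2
  simp only [Matrix.mul_neg, Matrix.add_mul, Matrix.smul_mul, Matrix.one_mul, Matrix.mul_assoc]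
  module

theorem Fac.cp_eq {R I : Type} [Fintype R] [DecidableEq R] [Fintype I] [DecidableEq I] {A A' : Mat R} {U : Mat I}
    {P : Matrix R I ℤ} {n : ℕ} (hn : Fintype.card I = n) {N : Matrix I R ℤ} (h : A * P = P) (hA : A' = (1 + P * N) * A)
    (hU : 1 + N * P = U) : (X - 1) ^ n * Cas.Eig.cp A' = Cas.Eig.cp A * Cas.Eig.cp U := by
  rw [← hn, hA, ← hU, Cas.Eig.cp, Cas.Eig.cp, Cas.Eig.cp, Matrix.map_mul, Matrix.map_add _ (map_add C),
    Matrix.map_add _ (map_add C), Matrix.map_mul (L := P), Matrix.map_mul (L := N), Matrix.map_one _ C_0 C_1,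
    Matrix.map_one _ C_0 C_1]
  exact Fac.blk _ _ _ X (by rw [← Matrix.map_mul, h])

theorem Fac.ex {R I : Type} [Fintype R] [DecidableEq R] [Fintype I] [DecidableEq I] {P : Matrix R I ℤ} {Φ : RS I} {Ψ : RS R}
    (T : Cu.Tr P Φ Ψ) {w : Mat R} (hw : w ∈ WW Ψ) : ∃ M : Matrix I R ℤ, w = 1 + P * M := by
  choose β hβ using fun r => T.sub_mem hw (Pi.single r 1)
  refine ⟨Matrix.of fun i r => β r i, ext_of_mulVec_single fun r => ?_⟩
  rw [hβ, add_mulVec, one_mulVec, ← mulVec_mulVec, mulVec_single_one]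
  rfl

variable {p : ℕ} [Fact p.Prime] {k : Type} [Field k] [CharP k p] [IsAlgClosed k] {Y : Type} [Group Y] {N : Type}
  [Fintype N] [DecidableEq N] {ρ : Y →* GL N k} {F : MulAut Y} {G : Subgroup Y} (D : Datum p ρ F G)

/-- **[Fac]** -/
theorem boxFac : BoxFac D := by
  intro j B h P T u hu
  choose M hM using fun w => Fac.ex T (Wm_mem (D := D) (w * u⁻¹))
  obtain ⟨U, hU⟩ : ∃ U : D.W → Mat (Fin 7), ∀ w, 1 + M w * P = U w := ⟨_, fun _ => rfl⟩
  have h2 : ∀ w, D.Wm w * B = (1 + P * M w) * (D.Wm u * B) := fun w => by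
    rw [← hM, ← mul_assoc, ← D.Wm_mul, inv_mul_cancel_right]
  have h3 : ∀ w, (1 + P * M w) * P = P * U w := fun w => by
    rw [← hU, Matrix.add_mul, Matrix.mul_add, Matrix.one_mul, Matrix.mul_one, Matrix.mul_assoc]
  have h4 : ∀ w, D.Wm w * B * P = P * U w := fun w => by rw [h2, Matrix.mul_assoc, hu, h3]
  refine ⟨U, fun w w' e => ?_, fun w => ⟨h4 w, ?_, ?_, ?_⟩⟩
  · exact mul_right_cancel (D.Wm_injective (T.eq_of (boxRs _ _ Eng.carE7) (Wm_mem _) (Wm_mem _) (by rw [hM, hM, h3, h3, e])))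
  · obtain ⟨n, hn, e⟩ := h.fin' w
    have h5 : ∀ m, (D.Wm w * B) ^ m * P = P * U w ^ m := fun m => by
      induction m with
      | zero => rw [pow_zero, pow_zero, Matrix.one_mul, Matrix.mul_one]
      | succ m ih => rw [pow_succ, pow_succ, Matrix.mul_assoc, h4, ← Matrix.mul_assoc, ih, Matrix.mul_assoc]
    exact ⟨n, hn, T.cancel (by rw [← h5, e, Matrix.one_mul, Matrix.mul_one])⟩
  · exact Fac.cp_eq (Fintype.card_fin 7) hu (h2 w) (hU w)
  · rw [← hU, ← det_one_add_mul_comm, ← hM, mul_comm, show (D.Wm (w * u⁻¹)).det = sgZ D (w * u⁻¹) from rfl, ← map_mul,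
      inv_mul_cancel_right]

end Cfsg.Agent.OM.On.F7
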